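import Groth.Agent.AlgSt88.QuotFib
import Groth.Agent.AlgSt88.QuotStackFib
import Groth.Agent.AlgSt88.QuotTorsor
import Groth.Agent.AGF80.Torsor
import Groth.Agent.Zeta30.Sum

/-!
The mass of the fibre of a quotient category over a finite field.
-/

set_option autoImplicit false
set_option linter.style.haveILetI false
set_option backward.isDefEq.respectTransparency false
set_option backward.isDefEq.respectTransparency.types false
universe u

open CategoryTheory CategoryTheory.Limits MonoidalCategory CartesianMonoidalCategory AlgebraicGeometry AlgSt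
open Groth.Agent.AlgSt88
open scoped MonObj GrpObj

namespace Groth.Agent.StMass44

variable {S : Scheme.{u}} {G X : Over S} [GrpObj G] (aX : AlgGrp.Action G X)

/-- The action of the points of the group on the points of the space. -/
@[reducible] noncomputable def ptAction (T : Over S) : MulAction (T ⟶ G) (T ⟶ X) where
  smul g y := lift g y ≫ aX.act
  one_smul y := act_lift_one aX y
  mul_smul g h y := act_lift_mul aX g h y

local notation "T₀" => Over.mk (𝟙 S)

/-- The trivial torsor with a point, in the fibre over the base. -/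
noncomputable def trivFib (x : T₀ ⟶ X) :
    Functor.Fiber (QuotSt Scheme.fppfPrecoverage G aX).p (Over.mk (𝟙 S)) :=
  ⟨(quotMap Scheme.fppfPrecoverage G aX).obj ⟨T₀, ⟨x⟩⟩, rfl⟩

theorem hom_base_eq (x y : T₀ ⟶ X) (h : trivFib aX x ⟶ trivFib aX y) : h.1.base = 𝟙 T₀ := by
  have h1 : (QuotSt Scheme.fppfPrecoverage G aX).p.IsHomLift (𝟙 T₀) h.1 := h.2
  exact (IsHomLift.fac' (QuotSt Scheme.fppfPrecoverage G aX).p (𝟙 T₀) h.1).trans (by simp; rfl)

theorem translate_eq (x y : T₀ ⟶ X) (g : T₀ ⟶ G) :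
    lift g (𝟙 T₀ ≫ y) ≫ aX.act = x ↔ (ptAction aX T₀).smul g y = x := by
  rw [Category.id_comp]; rfl

/-- Morphisms of trivial torsors with points are the translations. -/
theorem nonempty_hom_equiv (x y : T₀ ⟶ X) :
    Nonempty ((trivFib aX x ⟶ trivFib aX y) ≃ {g : T₀ ⟶ G // (ptAction aX T₀).smul g y = x}) := by
  have H := exists_quot_hom_over aX (𝟙 T₀) x y
  choose tr htr htr' using fun h : trivFib aX x ⟶ trivFib aX y => H.1 h.1 (hom_base_eq aX x y h)
  refine ⟨Equiv.ofBijective (fun h => ⟨tr h, (translate_eq aX x y _).1 (htr h)⟩) ⟨fun h h' e => ?_, ?_⟩⟩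
  · refine Functor.Fiber.hom_ext (QuotObj.hom_ext ((hom_base_eq aX x y h).trans (hom_base_eq aX x y h').symm) ?_)
    refine (htr' h).trans (Eq.trans ?_ (htr' h').symm)
    rw [Subtype.mk.injEq] at e
    rw [e]
  · rintro ⟨g, hg⟩
    obtain ⟨m, hm, hm'⟩ := H.2 g ((translate_eq aX x y g).2 hg)
    have hl : (QuotSt Scheme.fppfPrecoverage G aX).p.IsHomLift (𝟙 T₀) m :=
      IsHomLift.of_fac' _ _ _ rfl rfl (hm.trans (by simp; rfl))
    refine ⟨Functor.Fiber.homMk (QuotSt Scheme.fppfPrecoverage G aX).p T₀ m, Subtype.ext ?_⟩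
    have e := (htr' (Functor.Fiber.homMk (QuotSt Scheme.fppfPrecoverage G aX).p T₀ m)).symm.trans hm'
    have e2 := congrArg (fun t => lift (1 : T₀ ⟶ G) (𝟙 T₀) ≫ t ≫ fst G T₀) e
    simpa [MonObj.comp_mul] using e2

theorem isIsomorphic_triv_iff (x y : T₀ ⟶ X) :
    IsIsomorphic (trivFib aX x) (trivFib aX y) ↔ ∃ g : T₀ ⟶ G, (ptAction aX T₀).smul g y = x := by
  obtain ⟨e⟩ := nonempty_hom_equiv aX x y
  refine ⟨fun ⟨i⟩ => ⟨_, (e i.hom).2⟩, fun ⟨g, hg⟩ => ?_⟩
  let m := e.symm ⟨g, hg⟩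
  have hl : (QuotSt Scheme.fppfPrecoverage G aX).p.IsHomLift (𝟙 T₀) m.1 := m.2
  have : IsIso m.1 := Fib44.isIso_of_fibGrpd _ (isFibGrpd_quotSt (K := Scheme.fppfPrecoverage) aX) (𝟙 T₀) m.1
  have : IsIso m := ⟨⟨inv m.1, inferInstance⟩, Functor.Fiber.hom_ext (IsIso.hom_inv_id m.1),
    Functor.Fiber.hom_ext (IsIso.inv_hom_id m.1)⟩
  exact ⟨asIso m⟩

theorem card_aut_triv (x : T₀ ⟶ X) :
    Nat.card (Aut (trivFib aX x)) = Nat.card {g : T₀ ⟶ G // (ptAction aX T₀).smul g x = x} := by
  obtain ⟨e⟩ := nonempty_hom_equiv aX x x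
  refine Nat.card_congr (Equiv.trans (Equiv.ofBijective (fun a : Aut (trivFib aX x) => a.hom)
    ⟨fun a b h => Iso.ext h, fun m => ?_⟩) e)
  have hl : (QuotSt Scheme.fppfPrecoverage G aX).p.IsHomLift (𝟙 T₀) m.1 := m.2
  have : IsIso m.1 := Fib44.isIso_of_fibGrpd _ (isFibGrpd_quotSt (K := Scheme.fppfPrecoverage) aX) (𝟙 T₀) m.1
  have : IsIso m := ⟨⟨inv m.1, inferInstance⟩, Functor.Fiber.hom_ext (IsIso.hom_inv_id m.1),
    Functor.Fiber.hom_ext (IsIso.inv_hom_id m.1)⟩
  exact ⟨asIso m, rfl⟩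

section FiniteField

variable {F : Type u} [Field F] [Finite F]

theorem finite_points {Y : Over (Spec (CommRingCat.of F))} [LocallyOfFiniteType Y.hom] [QuasiCompact Y.hom] :
    Finite (Over.mk (𝟙 (Spec (CommRingCat.of F))) ⟶ Y) := by
  let φ : CommRingCat.of (ULift.{u} ℤ) ⟶ CommRingCat.of F :=
    CommRingCat.ofHom ((Int.castRingHom F).comp ULift.ringEquiv.toRingHom)
  have hφ : φ.hom.FiniteType := by
    letI := φ.hom.toAlgebra
    exact RingHom.Finite.finiteType (show φ.hom.Finite from @Module.Finite.of_finite _ _ _ _ φ.hom.toAlgebra.toModule _)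
  have : LocallyOfFiniteType (Spec.map φ) :=
    (HasRingHomProperty.Spec_iff (P := @LocallyOfFiniteType)).2 hφ
  have := Zeta30.finite_points (X := Y.left) (Y.hom ≫ Spec.map φ) F
  have : Finite ((Over.mk (𝟙 (Spec (CommRingCat.of F)))).left ⟶ Y.left) := this
  exact Finite.of_injective (fun k : Over.mk (𝟙 (Spec (CommRingCat.of F))) ⟶ Y => k.left)
    fun k k' h => Over.OverMorphism.ext h

variable {G X : Over (Spec (CommRingCat.of F))} [GrpObj G] (aX : AlgGrp.Action G X)
  [Smooth G.hom] [IsAffineHom G.hom] [ConnectedSpace ↥G.left]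

/-- Every object of the fibre over the base is a trivial torsor with a point. -/
theorem exists_iso_triv
    (A : Functor.Fiber (QuotSt Scheme.fppfPrecoverage G aX).p (Over.mk (𝟙 (Spec (CommRingCat.of F))))) :
    ∃ x, IsIsomorphic (trivFib aX x) A := by
  obtain ⟨A, hA⟩ := A
  change A.base = _ at hA
  haveI : IsAffine G.left := isAffine_of_isAffineHom G.hom
  haveI : Flat G.hom := inferInstance
  haveI : LocallyOfFinitePresentation A.π.left := lfp_π inferInstance A
  haveI : Surjective A.π.left := surjective_π A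
  haveI : IsIso A.base.hom := by
    have : (eqToHom hA).left ≫ (Over.mk (𝟙 (Spec (CommRingCat.of F)))).hom = A.base.hom := Over.w (eqToHom hA)
    rw [← this]
    change IsIso ((eqToHom hA).left ≫ 𝟙 _)
    rw [Category.comp_id]
    exact inferInstanceAs (IsIso ((Over.forget _).map (eqToHom hA)))
  haveI : LocallyOfFiniteType A.P.hom := by
    rw [← Over.w A.π]
    infer_instance
  haveI : Nonempty ↥A.P.left := by
    obtain ⟨x, -⟩ := A.π.left.surjective
      ((inv A.base.hom) (IsLocalRing.closedPoint F : Spec (CommRingCat.of F)))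
    exact ⟨x⟩
  have hterm : IsTerminal A.base :=
    IsTerminal.ofIso isTerminalTensorUnit (eqToIso (hA.trans (show Over.mk (𝟙 _) = 𝟙_ _ from rfl))).symm
  have hX : IsIso (lift A.act.act (snd G A.P)) := by
    have hP : IsPullback (fst A.P A.P) (snd A.P A.P) A.π A.π :=
      (AlgSt.isPullback_fst_snd A.P A.P).of_iso (Iso.refl _) (Iso.refl _) (Iso.refl _)
        (isTerminalTensorUnit.uniqueUpToIso hterm) (by simp) (by simp) (hterm.hom_ext _ _) (hterm.hom_ext _ _)
    have key : lift A.act.act (snd G A.P) = (A.cart.isoIsPullback _ _ hP).hom := by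
      apply CartesianMonoidalCategory.hom_ext
      · rw [lift_fst, IsPullback.isoIsPullback_hom_fst]
      · rw [lift_snd, IsPullback.isoIsPullback_hom_snd]
    rw [key]
    infer_instance
  obtain ⟨p⟩ := letI := Fintype.ofFinite F; Groth.Agent.AGF80.torsor_trivial A.P A.act hX
  let p' : Over.mk (𝟙 (Spec (CommRingCat.of F))) ⟶ A.P := p
  let m := pointHom A p'
  have hl : (QuotSt Scheme.fppfPrecoverage G aX).p.IsHomLift (𝟙 (Over.mk (𝟙 (Spec (CommRingCat.of F))))) m :=
    IsHomLift.of_fac' _ _ _ rfl hA (hterm.hom_ext _ _)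
  have : IsIso m := Fib44.isIso_of_fibGrpd _ (isFibGrpd_quotSt (K := Scheme.fppfPrecoverage) aX)
    (𝟙 (Over.mk (𝟙 (Spec (CommRingCat.of F))))) m
  refine ⟨p' ≫ A.φ, ⟨{
    hom := ⟨m, hl⟩
    inv := ⟨inv m, inferInstance⟩
    hom_inv_id := Functor.Fiber.hom_ext (IsIso.hom_inv_id m)
    inv_hom_id := Functor.Fiber.hom_ext (IsIso.inv_hom_id m) }⟩⟩

end FiniteField

/-- Orbit counting for a finite groupoid of an action. -/
theorem sum_inv_card {Γ P Q : Type*} [Group Γ] [Finite Γ] [Finite P] [MulAction Γ P] (f : P → Q)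
    (hf : Function.Surjective f) (hrel : ∀ x y, f x = f y ↔ ∃ g : Γ, g • y = x) (w : Q → ℕ)
    (hw : ∀ x, w (f x) = Nat.card (MulAction.stabilizer Γ x)) :
    ∑ᶠ c : Q, ((w c : ℚ))⁻¹ = (Nat.card P : ℚ) / (Nat.card Γ : ℚ) := by
  classical
  have : Finite Q := Finite.of_surjective f hf
  cases nonempty_fintype Q
  cases nonempty_fintype P
  cases nonempty_fintype Γ
  rw [finsum_eq_sum_of_fintype, Nat.card_eq_fintype_card (α := P), Fintype.card,
    Finset.card_eq_sum_card_fiberwise (f := f) (t := Finset.univ) (fun _ _ => Finset.mem_univ _),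
    Nat.cast_sum, Finset.sum_div]
  refine Finset.sum_congr rfl fun c _ => ?_
  obtain ⟨x, rfl⟩ := hf c
  have e : (Finset.univ.filter fun a => f a = f x).card = Nat.card (MulAction.orbit Γ x) := by
    rw [← Nat.card_eq_finsetCard]
    refine Nat.card_congr (Equiv.subtypeEquivRight fun a => ?_)
    simp only [Finset.mem_filter, Finset.mem_univ, true_and, hrel]
    exact Iff.rfl
  have h2 := MulAction.card_orbit_mul_card_stabilizer_eq_card_group Γ x
  simp only [← Nat.card_eq_fintype_card] at h2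
  have hpos : 0 < Nat.card (MulAction.stabilizer Γ x) := Nat.card_pos
  have hΓ : 0 < Nat.card Γ := Nat.card_pos
  rw [e, hw, ← h2]
  push_cast
  have : (Nat.card (MulAction.orbit Γ x) : ℚ) ≠ 0 := by
    have : Nonempty (MulAction.orbit Γ x) := ⟨⟨x, MulAction.mem_orbit_self x⟩⟩
    exact_mod_cast Nat.card_pos.ne'
  field_simp

end Groth.Agent.StMass44
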